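import Groth.Agent.HopfFFLib.Idem
import Mathlib.RingTheory.Bialgebra.TensorProduct
import Mathlib.FieldTheory.SeparableDegree
import Mathlib.FieldTheory.Minpoly.IsConjRoot
import Mathlib.FieldTheory.IsAlgClosed.AlgebraicClosure
import Mathlib.LinearAlgebra.TensorProduct.Basis
import Mathlib.Algebra.CharP.Lemmas

/-!
Descent of idempotents from the algebraic closure of an arbitrary field.
-/

set_option autoImplicit false
set_option maxHeartbeats 1000000

noncomputable section

universe u

open scoped TensorProduct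

namespace EtRetrLib

variable {k : Type u} [Field k]

/-- An element fixed by all automorphisms of an algebraic closure has a rational power. -/
theorem exists_pow_mem {L : Type u} [Field L] [Algebra k L] [IsAlgClosure k L] (q : ℕ) [ExpChar k q] {x : L}
    (h : ∀ σ : L ≃ₐ[k] L, σ x = x) : ∃ n : ℕ, x ^ q ^ n ∈ (algebraMap k L).range := by
  classical
  haveI : IsAlgClosed L := IsAlgClosure.isAlgClosed k
  haveI : Algebra.IsAlgebraic k L := IsAlgClosure.isAlgebraic
  haveI : Normal k L := IsAlgClosure.normal k L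
  have hx : IsIntegral k x := Algebra.IsIntegral.isIntegral x
  refine (minpoly.natSepDegree_eq_one_iff_pow_mem q).1 ?_
  rw [Polynomial.natSepDegree_eq_of_isAlgClosed (E := L)]
  have hset : ((minpoly k x).aroots L).toFinset = {x} := by
    ext y
    rw [Multiset.mem_toFinset, Finset.mem_singleton, Polynomial.mem_aroots]
    refine ⟨fun hy => ?_, fun hy => hy.symm ▸ ⟨minpoly.ne_zero hx, minpoly.aeval k x⟩⟩
    obtain ⟨σ, hσ⟩ := minpoly.exists_algEquiv_of_root' (K := k) (x := y) (y := x) hx.isAlgebraic hy.2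
    rw [← hσ, h σ]
  rw [hset, Finset.card_singleton]

/-- An idempotent fixed by all automorphisms is rational. -/
theorem idem_descends {L : Type u} [Field L] [Algebra k L] [IsAlgClosure k L] {V : Type u} [CommRing V] [Algebra k V]
    {f : L ⊗[k] V} (hf : IsIdempotentElem f)
    (h : ∀ σ : L ≃ₐ[k] L, Algebra.TensorProduct.map σ.toAlgHom (AlgHom.id k V) f = f) :
    ∃ c : V, (1 : L) ⊗ₜ[k] c = f := by
  classical
  obtain ⟨q, hq⟩ := ExpChar.exists k
  let b := Module.Free.chooseBasis k V
  let B := Algebra.TensorProduct.basis L b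
  have hmap : ∀ (σ : L ≃ₐ[k] L) (w : L ⊗[k] V) i,
      B.repr (Algebra.TensorProduct.map σ.toAlgHom (AlgHom.id k V) w) i = σ (B.repr w i) := by
    intro σ w i
    induction w using TensorProduct.induction_on with
    | zero => simp
    | add x y hx hy => simp [hx, hy]
    | tmul x v => simp [B, Algebra.smul_def]
  choose n hn using fun i => exists_pow_mem (k := k) q (x := B.repr f i) fun σ => by rw [← hmap, h σ]
  let N := (B.repr f).support.sup n
  have hN : ∀ i ∈ (B.repr f).support, B.repr f i ^ q ^ N ∈ (algebraMap k L).range := fun i hi => by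
    obtain ⟨m, hm⟩ := Nat.exists_eq_add_of_le (Finset.le_sup (f := n) hi : n i ≤ N)
    rw [show N = n i + m from hm, pow_add, pow_mul]
    exact Subring.pow_mem _ (hn i) _
  choose c hc using hN
  haveI : ExpChar L q := expChar_of_injective_algebraMap (algebraMap k L).injective q
  rcases subsingleton_or_nontrivial (L ⊗[k] V) with hs | hs
  · exact ⟨0, Subsingleton.elim _ _⟩
  haveI : ExpChar (L ⊗[k] V) q := expChar_of_injective_algebraMap (algebraMap L (L ⊗[k] V)).injective q
  refine ⟨∑ i ∈ (B.repr f).support.attach, c i.1 i.2 • b i.1 ^ q ^ N, ?_⟩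
  have hpow : ∀ m : ℕ, 0 < m → f ^ m = f := fun m hm => by
    obtain ⟨j, rfl⟩ := Nat.exists_eq_succ_of_ne_zero hm.ne'
    exact hf.pow_succ_eq j
  conv_rhs => rw [← hpow (q ^ N) (pow_pos (expChar_pos k q) N), ← B.linearCombination_repr f,
    Finsupp.linearCombination_apply, Finsupp.sum, sum_pow_char_pow, ← Finset.sum_attach]
  rw [TensorProduct.tmul_sum]
  refine Finset.sum_congr rfl fun i _ => ?_
  rw [smul_pow, Algebra.TensorProduct.basis_apply, Algebra.TensorProduct.tmul_pow, one_pow, ← hc i.1 i.2,
    algebraMap_smul, TensorProduct.tmul_smul]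

/-- A rational point makes connectedness geometric. -/
theorem connected_baseChange {C : Type u} [CommRing C] [Bialgebra k C] [Algebra.FiniteType k C]
    (L : Type u) [Field L] [Algebra k L] [IsAlgClosure k L]
    (hU : ∀ e : C, IsIdempotentElem e → e = 0 ∨ e = 1) :
    ∀ f : L ⊗[k] C, IsIdempotentElem f → f = 0 ∨ f = 1 := by
  classical
  haveI : IsNoetherianRing (L ⊗[k] C) := Algebra.FiniteType.isNoetherianRing L _
  let σC : (L ≃ₐ[k] L) → L ⊗[k] C →ₐ[k] L ⊗[k] C := fun σ => Algebra.TensorProduct.map σ.toAlgHom (AlgHom.id k C)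
  suffices h0 : ∀ f : L ⊗[k] C, IsIdempotentElem f → CoalgebraStruct.counit (R := L) f = 0 → f = 0 by
    intro f hf
    have h1 : IsIdempotentElem (Bialgebra.counitAlgHom L (L ⊗[k] C) f) := hf.map _
    rcases IsIdempotentElem.iff_eq_zero_or_one.1 h1 with h | h
    · exact Or.inl (h0 f hf h)
    · refine Or.inr (sub_eq_zero.1 (h0 (1 - f) hf.one_sub ?_)).symm
      rw [map_sub, Bialgebra.counit_one, show CoalgebraStruct.counit (R := L) f = 1 from h, sub_self]
  intro f hf hεf
  have hfin : (Set.range fun σ : L ≃ₐ[k] L => σC σ f).Finite :=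
    (Groth.Agent.HopfFF.finite_idempotents (L ⊗[k] C)).subset (by rintro _ ⟨σ, rfl⟩; exact hf.map _)
  let S := hfin.toFinset
  let P := ∏ s ∈ S, (1 - s)
  have hS : ∀ τ : L ≃ₐ[k] L, S.image (σC τ) = S := fun τ => by
    apply Finset.coe_injective
    rw [Finset.coe_image, hfin.coe_toFinset, ← Set.range_comp]
    refine Set.ext fun x => ⟨?_, ?_⟩
    · rintro ⟨σ, rfl⟩
      exact ⟨σ.trans τ, by simp [σC, ← AlgHom.comp_apply, ← Algebra.TensorProduct.map_comp]; rfl⟩
    · rintro ⟨σ, rfl⟩
      refine ⟨σ.trans τ.symm, ?_⟩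
      show (σC τ).comp (σC (σ.trans τ.symm)) f = _
      rw [← Algebra.TensorProduct.map_comp]
      congr 2
      exact AlgHom.ext fun x => τ.apply_symm_apply (σ x)
  have hinv : ∀ τ : L ≃ₐ[k] L, σC τ P = P := fun τ => by
    rw [map_prod]
    have hinj : Function.Injective (σC τ) := Function.LeftInverse.injective (g := σC τ.symm) fun x => by
      rw [← AlgHom.comp_apply, ← Algebra.TensorProduct.map_comp, show τ.symm.toAlgHom.comp τ.toAlgHom = AlgHom.id k L
        from AlgHom.ext τ.symm_apply_apply, AlgHom.id_comp, Algebra.TensorProduct.map_id, AlgHom.id_apply]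
    conv_rhs => rw [show P = ∏ s ∈ S.image (σC τ), (1 - s) by rw [hS], Finset.prod_image hinj.injOn]
    exact Finset.prod_congr rfl fun s _ => by rw [map_sub, map_one]
  have hPi : IsIdempotentElem P := by
    show (∏ s ∈ S, (1 - s)) * _ = _
    rw [← Finset.prod_mul_distrib]
    refine Finset.prod_congr rfl fun s hs => ?_
    obtain ⟨σ, rfl⟩ := hfin.mem_toFinset.1 hs
    exact ((hf.map (σC σ)).one_sub).eq
  obtain ⟨c, hc⟩ := idem_descends hPi hinv
  have hci : IsIdempotentElem c := Algebra.TensorProduct.includeRight_injective (algebraMap k L).injective (by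
    show (1 : L) ⊗ₜ[k] (c * c) = (1 : L) ⊗ₜ[k] c
    rw [← mul_one (1 : L), ← Algebra.TensorProduct.tmul_mul_tmul, mul_one, hc, hPi.eq])
  have hεσ : ∀ σ : L ≃ₐ[k] L, ∀ w, CoalgebraStruct.counit (R := L) (σC σ w) = σ (CoalgebraStruct.counit (R := L) w) := by
    intro σ w
    induction w using TensorProduct.induction_on with
    | zero => simp
    | add x y hx hy => simp only [map_add, hx, hy]
    | tmul x y => simp [σC, TensorProduct.counit_tmul]
  have hεP : CoalgebraStruct.counit (R := L) P = 1 := by
    show Bialgebra.counitAlgHom L (L ⊗[k] C) P = 1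
    rw [map_prod]
    refine Finset.prod_eq_one fun s hs => ?_
    obtain ⟨σ, rfl⟩ := hfin.mem_toFinset.1 hs
    rw [map_sub, map_one]
    show 1 - CoalgebraStruct.counit (R := L) (σC σ f) = 1
    rw [hεσ, hεf, map_zero, sub_zero]
  rcases hU c hci with rfl | rfl
  · rw [← hc, TensorProduct.tmul_zero, map_zero] at hεP
    exact absurd hεP zero_ne_one
  · have hfS : f ∈ S := hfin.mem_toFinset.2 ⟨AlgEquiv.refl, by
      show Algebra.TensorProduct.map (AlgHom.id k L) (AlgHom.id k C) f = f
      rw [Algebra.TensorProduct.map_id]; rfl⟩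
    have h1 : f * P = 0 := by
      show f * ∏ s ∈ S, (1 - s) = 0
      rw [← Finset.mul_prod_erase S _ hfS, ← mul_assoc, mul_sub, mul_one, hf.eq, sub_self, zero_mul]
    rw [← hc, ← Algebra.TensorProduct.one_def, mul_one] at h1
    exact h1

end EtRetrLib
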