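import Groth.Agent.EtRetrLib.Idem
import Groth.Agent.UnipSplitLib.Main
import Groth.Agent.MultUnipLib.Descent
import Groth.Agent.UnipHopfLib.BaseChange
import Groth.Agent.DiagHopfLib.FieldDesc
import Mathlib.RingTheory.Etale.Field
import Mathlib.RingTheory.Artinian.Module
import Mathlib.RingTheory.SimpleModule.Basic

/-!
Extensions of connected groups of multiplicative type by étale unipotent groups split uniquely.
-/

set_option autoImplicit false
set_option maxHeartbeats 1600000

noncomputable section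

universe u

open TensorProduct WithConv
open Groth.Agent

namespace EtRetrLib

/-- The kernel of a retraction onto a quotient by a reduced finite subgroup is generated by an idempotent. -/
theorem exists_idem_of_retraction {k : Type u} [Field k] {A B : Type u} [CommRing A] [HopfAlgebra k A]
    [CommRing B] [HopfAlgebra k B] (ψ : B →ₐc[k] A) (r : A →ₐc[k] B) (hr : ∀ b, r (ψ b) = b)
    (J : Ideal A) [J.IsHopfIdeal k]
    (hJ : J = Ideal.map (ψ : B →+* A) (RingHom.ker (Bialgebra.counitAlgHom k B))) [IsSemisimpleRing (A ⧸ J)] :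
    ∃ e : A, IsIdempotentElem e ∧ r e = 1 ∧ ∀ a, r a = 0 → (1 - e) ∣ a := by
  let pr : A →ₐ[k] A := (ψ : B →ₐ[k] A).comp (r : A →ₐ[k] B)
  let sig : A →ₐ[k] A := (toConv (AlgHom.id k A) * (toConv pr)⁻¹).ofConv
  have hsigψ : sig.comp (ψ : B →ₐ[k] A) = (Algebra.ofId k A).comp (Bialgebra.counitAlgHom k B) := by
    refine (AlgHom.convMul_comp_bialgHom_distrib (toConv (AlgHom.id k A)) (toConv pr)⁻¹ ψ).trans ?_
    show (toConv ((AlgHom.id k A).comp (ψ : B →ₐ[k] A)) *
      toConv ((pr.comp (HopfAlgebra.antipodeAlgHom k A)).comp (ψ : B →ₐ[k] A))).ofConv = _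
    have h3 : (pr.comp (HopfAlgebra.antipodeAlgHom k A)).comp (ψ : B →ₐ[k] A) =
        (ψ : B →ₐ[k] A).comp (HopfAlgebra.antipodeAlgHom k B) := AlgHom.ext fun y => by
      show ψ (r (HopfAlgebraStruct.antipode (R := k) (ψ y))) = ψ (HopfAlgebraStruct.antipode (R := k) y)
      rw [← HopfFF.map_antipode ψ y, hr]
    rw [h3, AlgHom.id_comp]
    exact congrArg WithConv.ofConv (mul_inv_cancel (toConv (ψ : B →ₐ[k] A)))
  have hJker : ∀ a ∈ J, sig a = 0 := fun a ha => by
    rw [hJ] at ha
    refine (Ideal.map_le_iff_le_comap.2 (fun b hb => ?_) ha : a ∈ RingHom.ker sig)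
    show sig (ψ b) = 0
    rw [show sig (ψ b) = (sig.comp (ψ : B →ₐ[k] A)) b from rfl, hsigψ]
    show algebraMap k A (CoalgebraStruct.counit (R := k) b) = 0
    rw [show CoalgebraStruct.counit (R := k) b = 0 from hb, map_zero]
  let σ : A ⧸ J →ₐ[k] A := Ideal.Quotient.liftₐ J sig hJker
  have hrsig : (r : A →ₐ[k] B).comp sig = (Algebra.ofId k B).comp (Bialgebra.counitAlgHom k A) := by
    refine (AlgHom.comp_convMul_distrib (r : A →ₐ[k] B) (toConv (AlgHom.id k A)) (toConv pr)⁻¹).trans ?_
    show (toConv ((r : A →ₐ[k] B).comp (AlgHom.id k A)) *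
      toConv ((r : A →ₐ[k] B).comp (pr.comp (HopfAlgebra.antipodeAlgHom k A)))).ofConv = _
    have h3 : (r : A →ₐ[k] B).comp (pr.comp (HopfAlgebra.antipodeAlgHom k A)) =
        (r : A →ₐ[k] B).comp (HopfAlgebra.antipodeAlgHom k A) := AlgHom.ext fun y => hr _
    rw [h3, AlgHom.comp_id]
    exact congrArg WithConv.ofConv (mul_inv_cancel (toConv (r : A →ₐ[k] B)))
  obtain ⟨e₀, he₀, hspan⟩ := IsSemisimpleRing.ideal_eq_span_idempotent
    (RingHom.ker (Bialgebra.counitAlgHom k (A ⧸ J)))
  refine ⟨1 - σ e₀, (he₀.map σ).one_sub, ?_, fun a ha => ?_⟩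
  · obtain ⟨a₀, rfl⟩ := Ideal.Quotient.mk_surjective e₀
    have h1 : r (σ (Ideal.Quotient.mk J a₀)) = 0 := by
      show ((r : A →ₐ[k] B).comp sig) a₀ = 0
      rw [hrsig]
      show algebraMap k B (CoalgebraStruct.counit (R := k) a₀) = 0
      have hmem : Ideal.Quotient.mk J a₀ ∈ RingHom.ker (Bialgebra.counitAlgHom k (A ⧸ J)) := by
        rw [hspan]; exact Ideal.mem_span_singleton_self _
      have h0 : CoalgebraStruct.counit (R := k) (Bialgebra.Quotient.mkBialgHom (R := k) J a₀) = 0 := hmem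
      rw [CoalgHomClass.counit_comp_apply] at h0
      rw [h0, map_zero]
    rw [map_sub, map_one, h1, sub_zero]
  · rw [sub_sub_cancel, ← Ideal.mem_span_singleton]
    let I : Ideal A := Ideal.span {σ e₀}
    let π : A →ₐ[k] A ⧸ I := Ideal.Quotient.mkₐ k I
    have hπsig : π.comp sig = (Algebra.ofId k (A ⧸ I)).comp (Bialgebra.counitAlgHom k A) := AlgHom.ext fun x => by
      show Ideal.Quotient.mk I (σ (Ideal.Quotient.mk J x)) = algebraMap k (A ⧸ I) (CoalgebraStruct.counit (R := k) x)
      rw [← Ideal.Quotient.mk_algebraMap, Ideal.Quotient.eq, ← AlgHom.commutes σ, ← map_sub, Ideal.mem_span_singleton]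
      refine map_dvd σ ?_
      rw [← Ideal.mem_span_singleton, ← hspan, RingHom.mem_ker, map_sub, AlgHom.commutes, sub_eq_zero]
      exact CoalgHomClass.counit_comp_apply (Bialgebra.Quotient.mkBialgHom (R := k) J) x
    have hid : toConv π = toConv (π.comp sig) * toConv (π.comp pr) := by
      have h := AlgHom.comp_convMul_distrib π (toConv sig) (toConv pr)
      rw [show toConv sig * toConv pr = toConv (AlgHom.id k A) from inv_mul_cancel_right _ _] at h
      exact congrArg toConv h
    rw [hπsig] at hid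
    have h2 : π = π.comp pr := by
      have := congrArg WithConv.ofConv (hid.trans (one_mul (toConv (π.comp pr))))
      exact this
    show a ∈ I
    rw [← Ideal.Quotient.eq_zero_iff_mem]
    show π a = 0
    rw [h2]
    show π (ψ (r a)) = 0
    rw [ha, map_zero, map_zero]

variable {k : Type u} [Field k] {A B : Type u} [CommRing A] [HopfAlgebra k A] [Algebra.FiniteType k A]
  [CommRing B] [HopfAlgebra k B] [Algebra.FiniteType k B]

theorem existsUnique_retraction (hB : SGA3b.IsMultTypeConst k B) (ψ : B →ₐc[k] A) (hψ : Function.Injective ψ)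
    (J : Ideal A) [J.IsHopfIdeal k] (hJ : J = Ideal.map (ψ : B →+* A) (RingHom.ker (Bialgebra.counitAlgHom k B)))
    (hU : HopfRep.IsUnipotent k (A ⧸ J)) [Algebra.Etale k (A ⧸ J)]
    (hH : ∀ e : B, IsIdempotentElem e → e = 0 ∨ e = 1) :
    ∃! r : A →ₐc[k] B, r.comp ψ = BialgHom.id k B := by
  classical
  let L := AlgebraicClosure k
  -- the base change splits
  have hdiag : SGA3b.IsDiag L (L ⊗[k] B) := by
    obtain ⟨T, _, _, hT, N, _, ⟨e⟩⟩ : ∃ (T : Type u) (_ : CommRing T) (_ : Algebra k T), Module.FaithfullyFlat k T ∧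
      SGA3b.IsDiag T (T ⊗[k] B) := hB
    haveI := hT
    obtain ⟨E⟩ := DiagHopf.exists_split_of_bialgEquiv e
    obtain ⟨L₀, _, _, N₀, _, ⟨E₀⟩⟩ := DiagHopf.exists_field_split (DiagHopf.isMultType_of_split E)
    obtain ⟨E'⟩ := DiagHopf.exists_split_algClosure' E₀ L
    exact ⟨N₀, inferInstance, DiagHopf.exists_bialgEquiv E'⟩
  let ψL : L ⊗[k] B →ₐc[L] L ⊗[k] A := Bialgebra.TensorProduct.map (BialgHom.id L L) ψ
  have hψL : Function.Injective ψL := by
    have h1 : ⇑ψL = ⇑(LinearMap.lTensor L (ψ : B →ₐ[k] A).toLinearMap) := funext fun z => by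
      induction z using TensorProduct.induction_on with
      | zero => simp
      | add x y hx hy => simp only [map_add, hx, hy]
      | tmul x y => rfl
    rw [h1]
    exact Module.Flat.lTensor_preserves_injective_linearMap _ hψ
  let J' := Ideal.map (ψL : L ⊗[k] B →+* L ⊗[k] A) (RingHom.ker (Bialgebra.counitAlgHom L (L ⊗[k] B)))
  haveI : J'.IsHopfIdeal L := UnipSplit.isHopfIdeal_map ψL
  let qJ : A →ₐc[k] A ⧸ J := Bialgebra.Quotient.mkBialgHom (R := k) J
  let qL : L ⊗[k] A →ₐc[L] L ⊗[k] (A ⧸ J) := Bialgebra.TensorProduct.map (BialgHom.id L L) qJ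
  have hqL : Function.Surjective qL := by
    intro z
    induction z using TensorProduct.induction_on with
    | zero => exact ⟨0, map_zero _⟩
    | add x y hx hy =>
      obtain ⟨a, rfl⟩ := hx; obtain ⟨b, rfl⟩ := hy
      exact ⟨a + b, map_add _ _ _⟩
    | tmul x y =>
      obtain ⟨y, rfl⟩ := Ideal.Quotient.mk_surjective y
      exact ⟨x ⊗ₜ y, rfl⟩
  let π' : L ⊗[k] A →ₐc[L] (L ⊗[k] A) ⧸ J' := Bialgebra.Quotient.mkBialgHom (R := L) J'
  let f : L ⊗[k] (A ⧸ J) →ₐ[L] (L ⊗[k] A) ⧸ J' := Algebra.TensorProduct.lift (Algebra.ofId L _)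
    (Ideal.Quotient.liftₐ J (((π' : L ⊗[k] A →ₐ[L] (L ⊗[k] A) ⧸ J').restrictScalars k).comp Algebra.TensorProduct.includeRight)
      fun a ha => by
        rw [hJ] at ha
        refine (Ideal.map_le_iff_le_comap.2 (fun b hb => ?_) ha :
          a ∈ RingHom.ker (((π' : L ⊗[k] A →ₐ[L] (L ⊗[k] A) ⧸ J').restrictScalars k).comp Algebra.TensorProduct.includeRight))
        show Ideal.Quotient.mk J' (ψL ((1 : L) ⊗ₜ[k] b)) = 0
        refine Ideal.Quotient.eq_zero_iff_mem.2 (Ideal.mem_map_of_mem (ψL : L ⊗[k] B →+* L ⊗[k] A)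
          (x := (1 : L) ⊗ₜ[k] b) ?_)
        show CoalgebraStruct.counit (R := L) ((1 : L) ⊗ₜ[k] b) = 0
        rw [TensorProduct.counit_tmul, show CoalgebraStruct.counit (R := k) b = 0 from hb, zero_smul])
    fun _ _ => Commute.all _ _
  have hfq : ∀ z, f (qL z) = π' z := fun z => by
    induction z using TensorProduct.induction_on with
    | zero => simp
    | add x y hx hy => simp only [map_add, hx, hy]
    | tmul x y =>
      show f (x ⊗ₜ[k] Ideal.Quotient.mk J y) = _
      rw [show x ⊗ₜ[k] y = x • ((1 : L) ⊗ₜ[k] y) by rw [TensorProduct.smul_tmul', smul_eq_mul, mul_one], map_smul]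
      simp only [f]
      simp
      exact (Algebra.smul_def x (π' ((1 : L) ⊗ₜ[k] y))).symm
  have hfs : Function.Surjective f := fun x => by
    obtain ⟨z, rfl⟩ := Ideal.Quotient.mk_surjective x
    exact ⟨qL z, hfq z⟩
  let fb : L ⊗[k] (A ⧸ J) →ₐc[L] (L ⊗[k] A) ⧸ J' := BialgHom.ofAlgHom f
    (AlgHom.ext fun w => by
      obtain ⟨z, rfl⟩ := hqL w
      show CoalgebraStruct.counit (R := L) (f (qL z)) = CoalgebraStruct.counit (R := L) (qL z)
      rw [hfq, CoalgHomClass.counit_comp_apply, CoalgHomClass.counit_comp_apply])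
    (AlgHom.ext fun w => by
      obtain ⟨z, rfl⟩ := hqL w
      show Algebra.TensorProduct.map f f (CoalgebraStruct.comul (R := L) (qL z)) = CoalgebraStruct.comul (R := L) (f (qL z))
      rw [hfq, ← CoalgHomClass.map_comp_comul_apply π', ← CoalgHomClass.map_comp_comul_apply qL]
      generalize CoalgebraStruct.comul (R := L) z = t
      induction t using TensorProduct.induction_on with
      | zero => simp
      | add x y hx hy => simp only [map_add, hx, hy]
      | tmul x y =>
        show f (qL x) ⊗ₜ[L] f (qL y) = π' x ⊗ₜ[L] π' y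
        rw [hfq, hfq])
  have hU' : HopfRep.IsUnipotent L ((L ⊗[k] A) ⧸ J') := UnipHopf.isUnipotent_of_exhaustive fun w => by
    obtain ⟨x, rfl⟩ := hfs w
    exact (UnipHopf.exhaustive_baseChange (UnipHopf.exhaustive_of_isUnipotent hU) x).imp
      fun n hn => UnipHopf.map_mem_K fb hn
  haveI : IsSemisimpleRing ((L ⊗[k] A) ⧸ J') := by
    haveI : Module.Finite L (L ⊗[k] (A ⧸ J)) := Algebra.FormallyUnramified.finite_of_free L _
    haveI : IsReduced (L ⊗[k] (A ⧸ J)) := Algebra.FormallyUnramified.isReduced_of_field L _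
    haveI : IsArtinianRing (L ⊗[k] (A ⧸ J)) := IsArtinianRing.of_finite L _
    haveI : IsSemisimpleRing (L ⊗[k] (A ⧸ J)) := IsArtinianRing.isSemisimpleRing_of_isReduced _
    exact f.toRingHom.isSemisimpleRing_of_surjective hfs
  obtain ⟨rL, hrL⟩ := UnipSplit.exists_retraction hdiag ψL hψL J' rfl hU'
  have hrL' : ∀ b, rL (ψL b) = b := fun b => DFunLike.congr_fun hrL b
  obtain ⟨e, he, hre, hker⟩ := exists_idem_of_retraction ψL rL hrL' J' rfl
  have hconn := connected_baseChange (k := k) (C := B) L hH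
  have hεe : CoalgebraStruct.counit (R := L) e = 1 := by
    rw [← CoalgHomClass.counit_comp_apply rL, hre, Bialgebra.counit_one]
  let σA : (L ≃ₐ[k] L) → L ⊗[k] A →ₐ[k] L ⊗[k] A := fun σ => Algebra.TensorProduct.map σ.toAlgHom (AlgHom.id k A)
  have hεσ : ∀ σ : L ≃ₐ[k] L, ∀ w, CoalgebraStruct.counit (R := L) (σA σ w) = σ (CoalgebraStruct.counit (R := L) w) := by
    intro σ w
    induction w using TensorProduct.induction_on with
    | zero => simp
    | add x y hx hy => simp only [map_add, hx, hy]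
    | tmul x y => simp [σA, TensorProduct.counit_tmul]
  have hmul : ∀ σ : L ≃ₐ[k] L, e * σA σ e = e := by
    intro σ
    have h1 : rL (σA σ e) = 1 := by
      refine (hconn _ ((he.map (σA σ)).map rL)).resolve_left fun h0 => ?_
      have h2 := congrArg (CoalgebraStruct.counit (R := L)) h0
      rw [CoalgHomClass.counit_comp_apply, hεσ, hεe, map_one, map_zero] at h2
      exact one_ne_zero h2
    obtain ⟨w, hw⟩ := hker (1 - σA σ e) (by rw [map_sub, map_one, h1, sub_self])
    have h2 : e * (1 - σA σ e) = 0 := by rw [hw, ← mul_assoc, mul_sub, mul_one, he.eq, sub_self, zero_mul]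
    rw [mul_sub, mul_one, sub_eq_zero] at h2
    exact h2.symm
  have hfix : ∀ σ : L ≃ₐ[k] L, σA σ e = e := by
    intro σ
    have h1 := congrArg (σA σ) (hmul σ.symm)
    have h2 : σA σ (σA σ.symm e) = e := by
      rw [← AlgHom.comp_apply, ← Algebra.TensorProduct.map_comp, show σ.toAlgHom.comp σ.symm.toAlgHom = AlgHom.id k L
        from AlgHom.ext σ.apply_symm_apply, AlgHom.id_comp, Algebra.TensorProduct.map_id, AlgHom.id_apply]
    rw [map_mul, h2, mul_comm, hmul] at h1
    exact h1.symm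
  obtain ⟨c, hc⟩ := idem_descends he hfix
  have hι : Function.Injective (Algebra.TensorProduct.includeRight : B →ₐ[k] L ⊗[k] B) :=
    Algebra.TensorProduct.includeRight_injective (algebraMap k L).injective
  have hci : IsIdempotentElem c := Algebra.TensorProduct.includeRight_injective (algebraMap k L).injective (by
    show (1 : L) ⊗ₜ[k] (c * c) = (1 : L) ⊗ₜ[k] c
    rw [← mul_one (1 : L), ← Algebra.TensorProduct.tmul_mul_tmul, mul_one, hc, he.eq])
  have hεc : CoalgebraStruct.counit (R := k) c = 1 := by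
    apply (algebraMap k L).injective
    rw [← hc, TensorProduct.counit_tmul] at hεe
    simpa [Algebra.algebraMap_eq_smul_one] using hεe
  -- the decomposition over the field
  let W : Submodule k A :=
    LinearMap.range (ψ : B →ₐ[k] A).toLinearMap ⊔ LinearMap.range (LinearMap.mulLeft k (1 - c))
  have hW : ∀ a : A, ∃ b d, a = ψ b + (1 - c) * d := by
    have hsub : Function.Surjective (LinearMap.lTensor L W.subtype) := by
      intro z
      have h1 : ∀ w, ψL w ∈ LinearMap.range (LinearMap.lTensor L W.subtype) := fun w => by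
        induction w using TensorProduct.induction_on with
        | zero => simp
        | add x y hx hy => rw [map_add]; exact add_mem hx hy
        | tmul x y => exact ⟨x ⊗ₜ[k] ⟨ψ y, Submodule.mem_sup_left ⟨y, rfl⟩⟩, rfl⟩
      have h2 : ∀ w, (1 - e) * w ∈ LinearMap.range (LinearMap.lTensor L W.subtype) := fun w => by
        induction w using TensorProduct.induction_on with
        | zero => simp
        | add x y hx hy => rw [mul_add]; exact add_mem hx hy
        | tmul x y =>
          refine ⟨x ⊗ₜ[k] ⟨(1 - c) * y, Submodule.mem_sup_right ⟨y, rfl⟩⟩, ?_⟩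
          rw [← hc, Algebra.TensorProduct.one_def, ← TensorProduct.tmul_sub, Algebra.TensorProduct.tmul_mul_tmul,
            one_mul, LinearMap.lTensor_tmul]
          rfl
      obtain ⟨w, hw⟩ := hker (z - ψL (rL z)) (by rw [map_sub, hrL', sub_self])
      obtain ⟨x, hx⟩ := add_mem (h1 (rL z)) (hw ▸ h2 w : z - ψL (rL z) ∈ _)
      exact ⟨x, by rw [hx, add_sub_cancel]⟩
    intro a
    obtain ⟨⟨x, hx⟩, rfl⟩ := (Module.FaithfullyFlat.lTensor_surjective_iff_surjective k L W.subtype).1 hsub a
    obtain ⟨_, ⟨b, rfl⟩, _, ⟨d, rfl⟩, hbd⟩ := Submodule.mem_sup.1 hx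
    exact ⟨b, d, hbd.symm⟩
  have hfix' : ∀ a : A, ∃ b : B, (1 : L) ⊗ₜ[k] b = rL ((1 : L) ⊗ₜ[k] a) := fun a => by
    obtain ⟨b, d, rfl⟩ := hW a
    refine ⟨b, ?_⟩
    have h1 : (1 : L) ⊗ₜ[k] ((1 - c) * d) = (1 - e) * ((1 : L) ⊗ₜ[k] d) := by
      rw [← hc, Algebra.TensorProduct.one_def, ← TensorProduct.tmul_sub, Algebra.TensorProduct.tmul_mul_tmul, one_mul]
    rw [TensorProduct.tmul_add, map_add, h1, map_mul rL, map_sub rL, map_one rL, hre, sub_self, zero_mul, add_zero]
    exact (hrL' ((1 : L) ⊗ₜ[k] b)).symm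
  choose r hr using hfix'
  let R₀ : A →ₐ[k] L ⊗[k] B :=
    ((rL : L ⊗[k] A →ₐ[L] L ⊗[k] B).restrictScalars k).comp Algebra.TensorProduct.includeRight
  have hR₀ : ∀ a, (Algebra.TensorProduct.includeRight : B →ₐ[k] L ⊗[k] B) (r a) = R₀ a := hr
  let r' : A →ₐ[k] B := AlgHom.ofLinearMap
    { toFun := r
      map_add' := fun x y => hι (by rw [map_add, hR₀, hR₀, hR₀, map_add])
      map_smul' := fun t x => hι (by rw [RingHom.id_apply, map_smul, hR₀, hR₀, map_smul]) }
    (hι (by show (Algebra.TensorProduct.includeRight : B →ₐ[k] L ⊗[k] B) (r 1) = _; rw [hR₀, map_one, map_one]))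
    fun x y => hι (by
      show (Algebra.TensorProduct.includeRight : B →ₐ[k] L ⊗[k] B) (r (x * y)) = _
      rw [hR₀, map_mul, ← hR₀, ← hR₀, ← map_mul]
      rfl)
  let rb : A →ₐc[k] B := BialgHom.ofAlgHom r'
    (AlgHom.ext fun a => by
      show CoalgebraStruct.counit (R := k) (r a) = CoalgebraStruct.counit (R := k) a
      apply (algebraMap k L).injective
      have h1 : CoalgebraStruct.counit (R := L) ((1 : L) ⊗ₜ[k] r a) = CoalgebraStruct.counit (R := L) ((1 : L) ⊗ₜ[k] a) := by
        rw [hr, CoalgHomClass.counit_comp_apply rL]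
      rw [TensorProduct.counit_tmul, TensorProduct.counit_tmul] at h1
      simpa [Algebra.algebraMap_eq_smul_one] using h1)
    (AlgHom.ext fun a => by
      show Algebra.TensorProduct.map r' r' (CoalgebraStruct.comul (R := k) a) = CoalgebraStruct.comul (R := k) (r a)
      apply MultUnip.incSq_injective (k := k) (L := L)
      rw [← UnipHopf.comul_one_tmul, hr, ← CoalgHomClass.map_comp_comul_apply rL, UnipHopf.comul_one_tmul]
      generalize CoalgebraStruct.comul (R := k) a = z
      induction z using TensorProduct.induction_on with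
      | zero => simp
      | add x y hx hy => simp only [map_add, hx, hy]
      | tmul x y =>
        rw [Algebra.TensorProduct.map_tmul, UnipHopf.incSq_tmul, UnipHopf.incSq_tmul, TensorProduct.map_tmul]
        exact congrArg₂ (· ⊗ₜ[L] ·) (hr x) (hr y))
  refine ⟨rb, BialgHom.ext fun b => hι ?_, fun s hs => BialgHom.ext fun a => ?_⟩
  · show (1 : L) ⊗ₜ[k] r (ψ b) = (1 : L) ⊗ₜ[k] b
    rw [hr]
    exact hrL' ((1 : L) ⊗ₜ[k] b)
  · obtain ⟨b, d, rfl⟩ := hW a
    have hone : ∀ t : A →ₐc[k] B, t c = 1 := fun t => by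
      refine (hH _ (hci.map t)).resolve_left fun h0 => ?_
      have h2 := congrArg (CoalgebraStruct.counit (R := k)) h0
      rw [CoalgHomClass.counit_comp_apply, hεc, map_zero] at h2
      exact one_ne_zero h2
    have hrb : rb (ψ b) = b := hι (by
      show (1 : L) ⊗ₜ[k] r (ψ b) = (1 : L) ⊗ₜ[k] b
      rw [hr]
      exact hrL' ((1 : L) ⊗ₜ[k] b))
    rw [map_add, map_add, map_mul, map_mul, map_sub, map_sub, map_one, map_one, hone, hone, sub_self, zero_mul,
      zero_mul, hrb]
    exact congrArg (· + 0) (DFunLike.congr_fun hs b)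

end EtRetrLib
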